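import Mathlib.CategoryTheory.Abelian.SerreClass.Localization

/-! The localization of an abelian category for a two-sided calculus of fractions is abelian.
The proofs about kernels and cokernels follow Mathlib's file on localization at a Serre class. -/

universe v' v u' u

open CategoryTheory CategoryTheory.Limits

namespace Groth.Agent.LocAb

variable {C : Type u} [Category.{v} C] [Abelian C] {D : Type u'} [Category.{v'} D]
  (L : C ⥤ D) (W : MorphismProperty C) [W.HasLeftCalculusOfFractions]
  [W.HasRightCalculusOfFractions] [L.IsLocalization W] [Preadditive D] [L.Additive]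

include L W

lemma map_eq_zero_iff {X Y : C} (f : X ⟶ Y) :
    L.map f = 0 ↔ ∃ (X' : C) (s : X' ⟶ X) (_ : W s), s ≫ f = 0 := by
  rw [← L.map_zero, MorphismProperty.map_eq_iff_precomp L W]
  simp

lemma map_eq_zero_iff' {X Y : C} (f : X ⟶ Y) :
    L.map f = 0 ↔ ∃ (Y' : C) (s : Y ⟶ Y') (_ : W s), f ≫ s = 0 := by
  rw [← L.map_zero, MorphismProperty.map_eq_iff_postcomp L W]
  simp

lemma preservesMonomorphisms : L.PreservesMonomorphisms where
  preserves {X Y} f _ := by
    have := Localization.essSurj L W
    rw [Preadditive.mono_iff_cancel_zero]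
    intro T z hz
    obtain ⟨φ, hφ⟩ := Localization.exists_rightFraction L W ((L.objObjPreimageIso T).hom ≫ z)
    have := Localization.inverts L W _ φ.hs
    have e : L.map φ.s ≫ (L.objObjPreimageIso T).hom ≫ z = L.map φ.f := by cat_disch
    have h0 : L.map φ.f = 0 := by
      have h1 : L.map (φ.f ≫ f) = 0 := by
        rw [L.map_comp, ← e, Category.assoc, Category.assoc, hz, comp_zero, comp_zero]
      obtain ⟨X', s, hs, h⟩ := (map_eq_zero_iff L W _).1 h1
      exact (map_eq_zero_iff L W _).2
        ⟨X', s, hs, by rwa [← cancel_mono f, zero_comp, Category.assoc]⟩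
    rw [h0] at e
    rwa [← cancel_epi (L.objObjPreimageIso T).hom, comp_zero, ← cancel_epi (L.map φ.s), comp_zero]

lemma preservesEpimorphisms : L.PreservesEpimorphisms where
  preserves {X Y} f _ := by
    have := Localization.essSurj L W
    rw [Preadditive.epi_iff_cancel_zero]
    intro T z hz
    obtain ⟨φ, hφ⟩ := Localization.exists_leftFraction L W (z ≫ (L.objObjPreimageIso T).inv)
    have := Localization.inverts L W _ φ.hs
    have e : L.map φ.f = z ≫ (L.objObjPreimageIso T).inv ≫ L.map φ.s := by simp [reassoc_of% hφ]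
    have h0 : L.map φ.f = 0 := by
      have h1 : L.map (f ≫ φ.f) = 0 := by rw [L.map_comp, e, reassoc_of% hz, zero_comp]
      obtain ⟨X', s, hs, h⟩ := (map_eq_zero_iff' L W _).1 h1
      exact (map_eq_zero_iff' L W _).2
        ⟨X', s, hs, by rwa [← cancel_epi f, comp_zero, ← Category.assoc]⟩
    rw [h0] at e
    rwa [← cancel_mono ((L.objObjPreimageIso T).inv ≫ L.map φ.s), zero_comp, eq_comm]

set_option backward.isDefEq.respectTransparency false in
lemma preservesKernel {X Y : C} (f : X ⟶ Y) :
    PreservesLimit (parallelPair f 0) L := by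
  have := preservesMonomorphisms L W
  have := Localization.essSurj L W
  suffices ∀ (Wo : D) (z : Wo ⟶ L.obj X) (hz : z ≫ L.map f = 0),
      ∃ (l : Wo ⟶ L.obj (kernel f)), l ≫ L.map (kernel.ι f) = z from
    preservesLimit_of_preserves_limit_cone (kernelIsKernel f)
      ((KernelFork.isLimitMapConeEquiv _ L).2
        (Fork.IsLimit.ofExistsUnique
          (fun s ↦ existsUnique_of_exists_of_unique
            (this _ _ (KernelFork.condition s))
            (fun _ _ h₁ h₂ ↦ by simpa [cancel_mono] using h₁.trans h₂.symm))))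
  intro Wo w hw
  wlog hw' : ∃ (Z : C) (hZ : Wo = L.obj Z) (z : Z ⟶ X), w = eqToHom hZ ≫ L.map z
      generalizing Wo
  · obtain ⟨φ, hφ⟩ := Localization.exists_rightFraction L W
      ((L.objObjPreimageIso Wo).hom ≫ w)
    rw [← cancel_epi (L.map φ.s),
      MorphismProperty.RightFraction.map_s_comp_map] at hφ
    obtain ⟨l, hl⟩ := this _ (L.map φ.f) (by
      rw [← hφ, Category.assoc, Category.assoc, hw, comp_zero, comp_zero]) ⟨_, rfl, by simp⟩
    exact ⟨(L.objObjPreimageIso Wo).inv ≫ inv (L.map φ.s) ≫ l, by simp [hl, ← hφ]⟩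
  obtain ⟨Z, rfl, z, rfl⟩ := hw'
  simp only [eqToHom_refl, Category.id_comp, ← L.map_comp, map_eq_zero_iff L W] at hw
  obtain ⟨Z', t, ht, fac⟩ := hw
  have := Localization.inverts L W t ht
  rw [← Category.assoc] at fac
  exact ⟨inv (L.map t) ≫ L.map (kernel.lift _ _ fac), by simp [← Functor.map_comp]⟩

set_option backward.isDefEq.respectTransparency false in
lemma preservesCokernel {X Y : C} (f : X ⟶ Y) :
    PreservesColimit (parallelPair f 0) L := by
  have := preservesEpimorphisms L W
  have := Localization.essSurj L W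
  suffices ∀ (Wo : D) (z : L.obj Y ⟶ Wo) (hz : L.map f ≫ z = 0),
      ∃ (l : L.obj (cokernel f) ⟶ Wo), L.map (cokernel.π f) ≫ l = z from
    preservesColimit_of_preserves_colimit_cocone (cokernelIsCokernel f)
      ((CokernelCofork.isColimitMapCoconeEquiv _ L).2
        (Cofork.IsColimit.ofExistsUnique
          (fun s ↦ existsUnique_of_exists_of_unique
            (this _ _ (CokernelCofork.condition s))
            (fun _ _ h₁ h₂ ↦ by simpa [cancel_epi] using h₁.trans h₂.symm))))
  intro Wo w hw
  wlog hw' : ∃ (Z : C) (hZ : L.obj Z = Wo) (z : Y ⟶ Z), w = L.map z ≫ eqToHom hZ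
      generalizing Wo
  · obtain ⟨φ, hφ⟩ := Localization.exists_leftFraction L W
      (w ≫ (L.objObjPreimageIso Wo).inv)
    rw [← cancel_mono (L.map φ.s), Category.assoc,
      MorphismProperty.LeftFraction.map_comp_map_s] at hφ
    obtain ⟨l, hl⟩ := this _ (L.map φ.f) (by rw [← hφ, reassoc_of% hw, zero_comp]) ⟨_, rfl, by simp⟩
    exact ⟨l ≫ inv (L.map φ.s) ≫ (L.objObjPreimageIso Wo).hom, by simp [reassoc_of% hl, ← hφ]⟩
  obtain ⟨Z, rfl, z, rfl⟩ := hw'
  simp only [eqToHom_refl, Category.comp_id, ← L.map_comp, map_eq_zero_iff' L W] at hw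
  obtain ⟨Z', t, ht, fac⟩ := hw
  rw [Category.assoc] at fac
  have := Localization.inverts L W t ht
  exact ⟨L.map (cokernel.desc _ _ fac) ≫ inv (L.map t), by simp [← L.map_comp_assoc]⟩

lemma exists_mono_lift {X Y : C} (g : X ⟶ Y) [Mono (L.map g)] :
    ∃ (X' : C) (f' : X' ⟶ Y) (_ : Mono f'), Nonempty (Arrow.mk (L.map f') ≅ Arrow.mk (L.map g)) := by
  have := preservesCokernel L W (kernel.ι g)
  have h0 : L.map (kernel.ι g) = 0 := by
    rw [← cancel_mono (L.map g), ← L.map_comp, kernel.condition, L.map_zero, zero_comp]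
  have hc := (CokernelCofork.isColimitMapCoconeEquiv _ L).1
    (isColimitOfPreserves L (cokernelIsCokernel (kernel.ι g)))
  have : IsIso (L.map (Abelian.coimage.π g)) := CokernelCofork.IsColimit.isIso_π _ hc h0
  let e : Arrow.mk (L.map g) ≅ Arrow.mk (L.map (Abelian.factorThruCoimage g)) :=
    Arrow.isoMk (asIso (L.map (Abelian.coimage.π g))) (Iso.refl _) (by simp [← L.map_comp])
  exact ⟨_, Abelian.factorThruCoimage g, inferInstance, ⟨e.symm⟩⟩

lemma exists_epi_lift {X Y : C} (g : X ⟶ Y) [Epi (L.map g)] :
    ∃ (Y' : C) (f' : X ⟶ Y') (_ : Epi f'), Nonempty (Arrow.mk (L.map f') ≅ Arrow.mk (L.map g)) := by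
  have := preservesKernel L W (cokernel.π g)
  have h0 : L.map (cokernel.π g) = 0 := by
    rw [← cancel_epi (L.map g), ← L.map_comp, cokernel.condition, L.map_zero, comp_zero]
  have hc := (KernelFork.isLimitMapConeEquiv _ L).1
    (isLimitOfPreserves L (kernelIsKernel (cokernel.π g)))
  have : IsIso (L.map (Abelian.image.ι g)) := KernelFork.IsLimit.isIso_ι _ hc h0
  exact ⟨_, Abelian.factorThruImage g, inferInstance, ⟨Arrow.isoMk (Iso.refl _)
    (asIso (L.map (Abelian.image.ι g))) (by simp [← L.map_comp])⟩⟩

set_option backward.isDefEq.respectTransparency false in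
lemma hasKernels : HasKernels D where
  has_limit f := by
    obtain ⟨g, ⟨e⟩⟩ :=
      (Localization.essSurj_mapArrow L W).mem_essImage (Arrow.mk f)
    have := preservesKernel L W g.hom
    have : HasLimit (parallelPair (L.map g.hom) 0) :=
      ⟨_, (KernelFork.isLimitMapConeEquiv _ L).1
        (isLimitOfPreserves L (kernelIsKernel g.hom))⟩
    exact hasLimit_of_iso (show parallelPair (L.map g.hom) 0 ≅ _ from
      parallelPair.ext (Arrow.leftFunc.mapIso e) (Arrow.rightFunc.mapIso e))

set_option backward.isDefEq.respectTransparency false in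
lemma hasCokernels : HasCokernels D where
  has_colimit f := by
    obtain ⟨g, ⟨e⟩⟩ :=
      (Localization.essSurj_mapArrow L W).mem_essImage (Arrow.mk f)
    have := preservesCokernel L W g.hom
    have : HasColimit (parallelPair (L.map g.hom) 0) :=
      ⟨_, (CokernelCofork.isColimitMapCoconeEquiv _ L).1
        (isColimitOfPreserves L (cokernelIsCokernel g.hom))⟩
    exact hasColimit_of_iso (show _ ≅ parallelPair (L.map g.hom) 0 from
      parallelPair.ext (Arrow.leftFunc.mapIso e.symm) (Arrow.rightFunc.mapIso e.symm))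

lemma hasEqualizers : HasEqualizers D :=
  have := hasKernels L W
  have {X Y : D} (f g : X ⟶ Y) : HasEqualizer f g :=
    Preadditive.hasEqualizer_of_hasKernel _ _
  hasEqualizers_of_hasLimit_parallelPair _

lemma hasCoequalizers : HasCoequalizers D :=
  have := hasCokernels L W
  have {X Y : D} (f g : X ⟶ Y) : HasCoequalizer f g :=
    Preadditive.hasCoequalizer_of_hasCokernel _ _
  hasCoequalizers_of_hasColimit_parallelPair _

lemma hasFiniteProducts : HasFiniteProducts D :=
  have := Localization.essSurj L W
  L.hasFiniteProducts_of_additive_of_essSurj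

lemma isNormalMonoCategory : IsNormalMonoCategory D where
  normalMonoOfMono f hf := by
    have := Localization.essSurj_mapArrow L W
    let e0 := L.mapArrow.objObjPreimageIso (Arrow.mk f)
    have : Mono (L.map (L.mapArrow.objPreimage (Arrow.mk f)).hom) :=
      ((MorphismProperty.monomorphisms D).arrow_iso_iff e0).2 hf
    obtain ⟨X', f', _, ⟨e1⟩⟩ := exists_mono_lift L W (L.mapArrow.objPreimage (Arrow.mk f)).hom
    let e := e1 ≪≫ e0
    let hf' := normalMonoOfMono f'
    have := preservesKernel L W hf'.g
    refine ⟨NormalMono.ofArrowIso ?_ e⟩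
    exact {
      Z := L.obj hf'.Z
      g := L.map hf'.g
      w := by rw [← L.map_comp]; simp [hf'.w]
      isLimit :=
        (KernelFork.isLimitMapConeEquiv _ L).1
          (isLimitOfPreserves L hf'.isLimit) }

lemma isNormalEpiCategory : IsNormalEpiCategory D where
  normalEpiOfEpi f hf := by
    have := Localization.essSurj_mapArrow L W
    let e0 := L.mapArrow.objObjPreimageIso (Arrow.mk f)
    have : Epi (L.map (L.mapArrow.objPreimage (Arrow.mk f)).hom) :=
      ((MorphismProperty.epimorphisms D).arrow_iso_iff e0).2 hf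
    obtain ⟨Y', f', _, ⟨e1⟩⟩ := exists_epi_lift L W (L.mapArrow.objPreimage (Arrow.mk f)).hom
    let e := e1 ≪≫ e0
    let hf' := normalEpiOfEpi f'
    have := preservesCokernel L W hf'.g
    refine ⟨NormalEpi.ofArrowIso ?_ e⟩
    exact {
      W := L.obj hf'.W
      g := L.map hf'.g
      w := by rw [← L.map_comp]; simp [hf'.w]
      isColimit :=
        (CokernelCofork.isColimitMapCoconeEquiv _ L).1
          (isColimitOfPreserves L hf'.isColimit) }

@[instance_reducible]
noncomputable def abelian : Abelian D := by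
  have := hasFiniteProducts L W
  have := hasKernels L W
  have := hasCokernels L W
  have := isNormalMonoCategory L W
  have := isNormalEpiCategory L W
  constructor

lemma hasZeroObject : HasZeroObject D :=
  have := abelian L W
  Abelian.hasZeroObject

lemma preservesFiniteLimits : PreservesFiniteLimits L := by
  let := abelian L W
  rw [((Functor.preservesFiniteLimits_tfae L).out 3 2 :)]
  intro _ _ f
  exact preservesKernel L W f

lemma preservesFiniteColimits : PreservesFiniteColimits L := by
  let := abelian L W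
  rw [((Functor.preservesFiniteColimits_tfae L).out 3 2 :)]
  intro _ _ f
  exact preservesCokernel L W f

end Groth.Agent.LocAb
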